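import Cfsg.Agent.Lib.Blocks.PrimeOrderShift

/-!
# Signed sets with pairwise inner products `e` and norms `e + 1`

A family of `m` sign vectors of norm `e + 1` with pairwise inner product `e`, with coherent signs
and covering the ground set, is a sunflower or a co-sunflower.
-/

set_option autoImplicit false

namespace Cfsg.Agent.Lib.CyclicPieces

open Cfsg Cfsg.Agent.Lib.Blocks

/-- The two shapes of a coherent family of signed sets with Gram matrix `e + δ`. -/
theorem lattice_dichotomy {ι : Type*} [Fintype ι] [DecidableEq ι] {m : ℕ} (hm : 0 < m) {e : ℕ}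
    (he : 0 < e) (w : Fin m → ι → ℤ)
    (hgram : ∀ i j, ∑ x, w i x * w j x = (e : ℤ) + if i = j then 1 else 0)
    (hsign : ∀ x, ∃ s : ℤ, (s = 1 ∨ s = -1) ∧ ∀ j, w j x = 0 ∨ w j x = s)
    (hsupp : ∀ x, ∃ j, w j x ≠ 0) :
    ∃ (y : Fin m → ι) (d : ι → ℤ), Function.Injective y ∧ (∀ x, d x = 1 ∨ d x = -1) ∧
      (∀ j x, (∀ i, x ≠ y i) → w j x = d x) ∧
      ((Fintype.card ι = e + m ∧ ∀ j i, w j (y i) = if i = j then d (y i) else 0) ∨
       (3 ≤ m ∧ Fintype.card ι = e + 2 ∧ ∀ j i, w j (y i) = if i = j then 0 else d (y i))) := by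
  classical
  choose d hd hdw using hsign
  set F : Fin m → Finset ι := fun j => Finset.univ.filter fun x => w j x ≠ 0 with hF
  have hmemF : ∀ j x, x ∈ F j ↔ w j x ≠ 0 := fun j x => by simp [hF]
  have hin : ∀ j x, x ∈ F j → w j x = d x := fun j x h =>
    (hdw x j).resolve_left ((hmemF j x).1 h)
  have hout : ∀ j x, x ∉ F j → w j x = 0 := fun j x h => by
    by_contra hne
    exact h ((hmemF j x).2 hne)
  have hprod : ∀ i j, ((F i ∩ F j).card : ℤ) = (e : ℤ) + if i = j then 1 else 0 := by
    intro i j
    rw [← hgram i j, ← Finset.sum_subset (Finset.subset_univ (F i ∩ F j)) fun x _ hx => by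
      rw [Finset.mem_inter, not_and_or] at hx
      rcases hx with hx | hx
      · rw [hout i x hx, zero_mul]
      · rw [hout j x hx, mul_zero]]
    rw [Finset.sum_congr rfl fun x hx => show w i x * w j x = 1 by
      rw [Finset.mem_inter] at hx
      rw [hin i x hx.1, hin j x hx.2]
      rcases hd x with h | h <;> rw [h] <;> norm_num, Finset.sum_const, nsmul_one]
  have hcardF : ∀ j, (F j).card = e + 1 := fun j => by
    have h := hprod j j
    rw [Finset.inter_self, if_pos rfl] at h
    omega
  have hcardI : ∀ i j, i ≠ j → (F i ∩ F j).card = e := fun i j hij => by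
    have h := hprod i j
    rw [if_neg hij] at h
    omega
  have hcompl : ∀ j, (F j)ᶜ.card + (e + 1) = Fintype.card ι := fun j => by
    rw [← hcardF j, Finset.card_compl_add_card]
  rcases Nat.lt_or_ge m 2 with hm2 | hm2
  · obtain rfl : m = 1 := by omega
    have hall : ∀ x, x ∈ F 0 := fun x => by
      obtain ⟨j, hj⟩ := hsupp x
      rw [Subsingleton.elim j 0] at hj
      exact (hmemF 0 x).2 hj
    obtain ⟨x₀, -⟩ : (F 0).Nonempty := Finset.card_pos.1 (by rw [hcardF]; omega)
    refine ⟨fun _ => x₀, d, fun a b _ => Subsingleton.elim a b, hd, fun j x _ => ?_,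
      Or.inl ⟨?_, fun j i => ?_⟩⟩
    · rw [Subsingleton.elim j 0]; exact hin 0 x (hall x)
    · rw [← hcardF 0, Finset.eq_univ_iff_forall.2 hall, Finset.card_univ]
    · rw [if_pos (Subsingleton.elim i j), Subsingleton.elim j 0]; exact hin 0 x₀ (hall x₀)
  · have hne01 : (⟨0, hm⟩ : Fin m) ≠ ⟨1, by omega⟩ := by simp [Fin.ext_iff]
    have : Nonempty ι := ⟨(Finset.card_pos.1 (by rw [hcardF ⟨0, hm⟩]; omega)).choose⟩
    obtain ⟨Y, hY, hcases, hrest⟩ := exceptional_dichotomy F Eq (fun _ _ h => h.symm)
      (fun _ _ h => h ▸ rfl) (fun i j hij => by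
        have h1 := Finset.card_sdiff_add_card_inter (F i) (F j)
        rw [hcardF, hcardI i j hij] at h1
        omega) hne01
    have hYinj : Function.Injective Y := fun a b h => (hY a b).1 h
    have hother : ∀ x, (∀ i, x ≠ Y i) → ∀ j, x ∈ F j := fun x hx j => by
      obtain ⟨i, hi⟩ := hsupp x
      exact (hrest x hx i j).1 ((hmemF i x).2 hi)
    rcases hcases with hsun | hco
    · refine ⟨Y, d, hYinj, hd, fun j x hx => hin j x (hother x hx j), Or.inl ⟨?_, fun j i => ?_⟩⟩
      · have hc : (F ⟨0, hm⟩)ᶜ = (Finset.univ.erase (⟨0, hm⟩ : Fin m)).image Y := by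
          ext x
          simp only [Finset.mem_compl, Finset.mem_image, Finset.mem_erase, Finset.mem_univ,
            and_true]
          constructor
          · intro hx
            by_cases hY' : ∀ i, x ≠ Y i
            · exact absurd (hother x hY' _) hx
            · push Not at hY'
              obtain ⟨i, rfl⟩ := hY'
              exact ⟨i, fun hi => hx ((hsun i _).2 hi), rfl⟩
          · rintro ⟨i, hi, rfl⟩ hx
            exact hi ((hsun i _).1 hx)
        have h := hcompl ⟨0, hm⟩
        rw [hc, Finset.card_image_of_injective _ hYinj,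
          Finset.card_erase_of_mem (Finset.mem_univ _), Finset.card_univ, Fintype.card_fin] at h
        omega
      · by_cases hij : i = j
        · rw [if_pos hij]; exact hin j _ ((hsun i j).2 hij)
        · rw [if_neg hij]; exact hout j _ fun h => hij ((hsun i j).1 h)
    · have hcard : Fintype.card ι = e + 2 := by
        have hc : (F ⟨0, hm⟩)ᶜ = {Y ⟨0, hm⟩} := by
          ext x
          simp only [Finset.mem_compl, Finset.mem_singleton]
          constructor
          · intro hx
            by_cases hY' : ∀ i, x ≠ Y i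
            · exact absurd (hother x hY' _) hx
            · push Not at hY'
              obtain ⟨i, rfl⟩ := hY'
              by_contra hne
              exact hx ((hco i _).2 fun hi => hne (by rw [hi]))
          · rintro rfl hx
            exact (hco _ _).1 hx rfl
        have h := hcompl ⟨0, hm⟩
        rw [hc, Finset.card_singleton] at h
        omega
      rcases Nat.lt_or_ge m 3 with hm3 | hm3
      · obtain rfl : m = 2 := by omega
        have hrev : ∀ i j : Fin 2, i.rev ≠ j ↔ i = j := by decide
        refine ⟨Y ∘ Fin.rev, d, hYinj.comp Fin.rev_injective, hd, fun j x hx => hin j x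
          (hother x (fun i => by simpa using hx i.rev) j), Or.inl ⟨hcard, fun j i => ?_⟩⟩
        by_cases hij : i = j
        · rw [if_pos hij]; exact hin j _ ((hco _ j).2 ((hrev i j).2 hij))
        · rw [if_neg hij]; exact hout j _ fun h => hij ((hrev i j).1 ((hco _ j).1 h))
      · refine ⟨Y, d, hYinj, hd, fun j x hx => hin j x (hother x hx j),
          Or.inr ⟨hm3, hcard, fun j i => ?_⟩⟩
        by_cases hij : i = j
        · rw [if_pos hij]; exact hout j _ fun h => (hco i j).1 h hij
        · rw [if_neg hij]; exact hin j _ ((hco i j).2 hij)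

end Cfsg.Agent.Lib.CyclicPieces
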