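import Cfsg.Agent.Lib.Blocks.PrimeOrderSections
import Mathlib.RingTheory.Polynomial.Pochhammer
import Mathlib.RingTheory.IntegralDomain

/-!
# Gaussian periods modulo the local ideal

The sum of `ζ^(t c)` over the `e`-th roots of unity `t` modulo `p` is congruent to `e` modulo
exactly the `e`-th power of `1 - ζ`.
-/

set_option autoImplicit false

namespace Cfsg.Agent.Lib.CyclicPieces

open Cfsg Cfsg.Agent.Lib.Blocks

/-- Sums of powers of the `e`-th roots of unity modulo `p`, applied to binomial coefficients. -/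
theorem sum_choose_nthRoots {p : ℕ} [hp : Fact p.Prime] {e : ℕ} (hep : e ∣ p - 1) :
    (∑ t ∈ (Polynomial.nthRoots e (1 : ZMod p)).toFinset, t.val.choose 0 = e) ∧
    ∀ k, 1 ≤ k → k ≤ e →
      ((k.factorial * ∑ t ∈ (Polynomial.nthRoots e (1 : ZMod p)).toFinset, t.val.choose k : ℕ) :
        ZMod p) = if k = e then (e : ZMod p) else 0 := by
  classical
  have hp1 : p - 1 ≠ 0 := by have := hp.out.two_le; omega
  have he : 0 < e := Nat.pos_of_ne_zero fun h => hp1 (by simpa [h] using hep)
  obtain ⟨r, hr⟩ : ∃ r : ZMod p, IsPrimitiveRoot r e := by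
    obtain ⟨g, hg⟩ := IsCyclic.exists_ofOrder_eq_natCard (α := (ZMod p)ˣ)
    rw [Nat.card_eq_fintype_card, ZMod.card_units] at hg
    obtain ⟨a, ha⟩ := hep
    have h1 : IsPrimitiveRoot g (p - 1) := hg ▸ IsPrimitiveRoot.orderOf g
    refine ⟨((g ^ a : (ZMod p)ˣ) : ZMod p), IsPrimitiveRoot.coe_units_iff.2 ?_⟩
    exact h1.pow (Nat.pos_of_ne_zero hp1) (by rw [ha]; ring)
  set H : Finset (ZMod p) := (Polynomial.nthRoots e (1 : ZMod p)).toFinset with hH
  have hmem : ∀ x, x ∈ H ↔ x ^ e = 1 := fun x => by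
    rw [hH, Multiset.mem_toFinset, Polynomial.mem_nthRoots he]
  have hcard : H.card = e := by
    rw [hH, Multiset.toFinset_card_of_nodup hr.nthRoots_one_nodup, hr.card_nthRoots_one]
  have hpe : ∑ t ∈ H, t ^ e = (e : ZMod p) := by
    rw [Finset.sum_congr rfl fun t ht => (hmem t).1 ht, Finset.sum_const, hcard, nsmul_one]
  have hr0 : r ≠ 0 := hr.ne_zero he.ne'
  have hpow : ∀ j, 0 < j → j < e → ∑ t ∈ H, t ^ j = 0 := by
    intro j hj hje
    have h : r ^ j * ∑ t ∈ H, t ^ j = ∑ t ∈ H, t ^ j := by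
      rw [Finset.mul_sum]
      refine Finset.sum_bij (fun t _ => r * t) (fun t ht => ?_)
        (fun a _ b _ hab => mul_left_cancel₀ hr0 hab)
        (fun b hb => ⟨r⁻¹ * b, ?_, mul_inv_cancel_left₀ hr0 b⟩) (fun t _ => (mul_pow r t j).symm)
      · rw [hmem] at *
        rw [mul_pow, hr.pow_eq_one, ht, one_mul]
      · rw [hmem] at *
        rw [mul_pow, inv_pow, hr.pow_eq_one, hb, inv_one, one_mul]
    have h2 : (r ^ j - 1) * ∑ t ∈ H, t ^ j = 0 := by rw [sub_mul, h, one_mul, sub_self]
    exact (mul_eq_zero.1 h2).resolve_left (sub_ne_zero.2 (hr.pow_ne_one_of_pos_of_lt hj.ne' hje))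
  refine ⟨by simp [hcard], fun k hk1 hke => ?_⟩
  have hdeg : (descPochhammer (ZMod p) k).natDegree = k := descPochhammer_natDegree (ZMod p) k
  have h : ((k.factorial * ∑ t ∈ H, t.val.choose k : ℕ) : ZMod p) =
      ∑ t ∈ H, (descPochhammer (ZMod p) k).eval t := by
    rw [Finset.mul_sum, Nat.cast_sum]
    refine Finset.sum_congr rfl fun t _ => ?_
    conv_rhs => rw [← ZMod.natCast_zmod_val t]
    rw [descPochhammer_eval_eq_descFactorial, Nat.descFactorial_eq_factorial_mul_choose]
  rw [h, Finset.sum_congr rfl fun t _ =>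
    Polynomial.eval_eq_sum_range (p := descPochhammer (ZMod p) k) t, Finset.sum_comm, hdeg,
    Finset.sum_range_succ, Finset.sum_eq_zero, zero_add]
  · rw [← Finset.mul_sum]
    rcases eq_or_lt_of_le hke with rfl | hlt
    · have hmon := (monic_descPochhammer (ZMod p) k).coeff_natDegree
      rw [hdeg] at hmon
      rw [hmon, hpe, one_mul, if_pos rfl]
    · rw [hpow k hk1 hlt, mul_zero, if_neg hlt.ne]
  · intro j hj
    rw [Finset.mem_range] at hj
    rw [← Finset.mul_sum]
    rcases Nat.eq_zero_or_pos j with rfl | hj0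
    · rw [Polynomial.coeff_zero_eq_eval_zero, descPochhammer_ne_zero_eval_zero, zero_mul]
      omega
    · rw [hpow j hj0 (by omega), mul_zero]

/-- The square of `e` minus a Gaussian period is not divisible by `p` in the local ring when
`3 * e ≤ p - 1`. -/
theorem sq_natCast_sub_orbitSum_not_dvd {M : Ideal AlgInt} [M.IsPrime] {p : ℕ} [hp : Fact p.Prime]
    (hM : IsPModular p M) {e : ℕ} (hep : e ∣ p - 1) (h3 : 3 * e ≤ p - 1) {c : ZMod p}
    (hc : c ≠ 0) :
    ¬ MemLocalRing M
      (((e : ℂ) - ∑ t ∈ (Polynomial.nthRoots e (1 : ZMod p)).toFinset,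
        ZMod.stdAddChar (t * c)) ^ 2 / (p : ℂ)) := by
  classical
  have hp1 : p - 1 ≠ 0 := by have := hp.out.two_le; omega
  have he : 0 < e := Nat.pos_of_ne_zero fun h => hp1 (by simpa [h] using hep)
  set H : Finset (ZMod p) := (Polynomial.nthRoots e (1 : ZMod p)).toFinset with hH
  obtain ⟨ha0, hak⟩ := sum_choose_nthRoots hep
  rw [← hH] at ha0 hak
  set a : ℕ → ℕ := fun k => ∑ t ∈ H, t.val.choose k with ha
  set π : ℂ := 1 - ZMod.stdAddChar c with hπ
  have hne : ∀ x : ZMod p, x ≠ 0 → (1 : ℂ) - ZMod.stdAddChar x ≠ 0 := fun x hx =>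
    sub_ne_zero.2 fun h =>
      hx (ZMod.injective_stdAddChar (h.symm.trans (AddChar.map_zero_eq_one _).symm))
  have hπ0 : π ≠ 0 := hne c hc
  have hπR : MemLocalRing M π := memLocalRing_sub memLocalRing_one (memLocalRing_stdAddChar _)
  -- the valuation of `p`
  set up : ℂ := ∏ s ∈ (Finset.univ : Finset (ZMod p)).erase 0, (1 - ZMod.stdAddChar s) / π with hup
  have hupR : MemLocalRing M up := memLocalRing_prod _ fun s _ => memLocalRing_one_sub_div hc
  have hupI : MemLocalRing M up⁻¹ := by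
    rw [hup, ← Finset.prod_inv_distrib]
    refine memLocalRing_prod _ fun s hs => ?_
    rw [inv_div]
    exact memLocalRing_one_sub_div (Finset.mem_erase.1 hs).1
  have hpπ : (p : ℂ) = π ^ (p - 1) * up := by
    rw [hup, Finset.prod_div_distrib, Finset.prod_const, Finset.card_erase_of_mem (Finset.mem_univ _),
      Finset.card_univ, ZMod.card, prod_one_sub_stdAddChar, mul_div_cancel₀]
    exact pow_ne_zero _ hπ0
  have hup0 : up ≠ 0 := fun h => hp.out.ne_zero (Nat.cast_eq_zero.1 (by rw [hpπ, h, mul_zero]))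
  have hπI : MemLocalIdeal M π := by
    rw [← memLocalIdeal_pow_iff hπR (n := p - 1) hp1,
      show π ^ (p - 1) = (p : ℂ) * up⁻¹ by rw [hpπ, mul_inv_cancel_right₀ hup0]]
    exact memLocalIdeal_mul_right ((memLocalIdeal_natCast_iff hM p).2 dvd_rfl) hupI
  have hπn : ∀ n, n ≠ 0 → MemLocalIdeal M (π ^ n) := fun n hn =>
    (memLocalIdeal_pow_iff hπR hn).2 hπI
  -- the expansion of the period in powers of `π`
  have hsum : ∑ t ∈ H, ZMod.stdAddChar (t * c) =
      ∑ k ∈ Finset.range p, (a k : ℂ) * (-π) ^ k := by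
    simp only [ha, Nat.cast_sum, Finset.sum_mul]
    rw [Finset.sum_comm]
    refine Finset.sum_congr rfl fun t _ => ?_
    have e1 : ZMod.stdAddChar (t * c) = (-π + 1) ^ t.val := by
      rw [show -π + 1 = ZMod.stdAddChar c by rw [hπ]; ring, ← AddChar.map_nsmul_eq_pow,
        nsmul_eq_mul, ZMod.natCast_zmod_val]
    rw [e1, add_pow]
    have hlt := ZMod.val_lt t
    refine (Finset.sum_subset (Finset.range_subset_range.2 (by omega)) fun k _ hk => ?_).trans
      (Finset.sum_congr rfl fun k _ => by rw [one_pow, mul_one, mul_comm])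
    rw [Finset.mem_range] at hk
    rw [Nat.choose_eq_zero_of_lt (by omega), Nat.cast_zero, mul_zero]
  set f : ℕ → ℂ := fun k => (a k : ℂ) * (-π) ^ k / π ^ e with hf
  set u : ℂ := -∑ k ∈ (Finset.range p).erase 0, f k with hu
  have hdec : (e : ℂ) - ∑ t ∈ H, ZMod.stdAddChar (t * c) = π ^ e * u := by
    rw [hsum, ← Finset.add_sum_erase _ _ (Finset.mem_range.2 hp.out.pos), hu, mul_neg,
      Finset.mul_sum]
    rw [Finset.sum_congr rfl fun k (_ : k ∈ (Finset.range p).erase 0) => show π ^ e * f k =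
      (a k : ℂ) * (-π) ^ k from mul_div_cancel₀ _ (pow_ne_zero _ hπ0)]
    have : (a 0 : ℂ) = (e : ℂ) := by exact_mod_cast ha0
    rw [this]
    ring
  have hpfac : ∀ k, k ≤ e → ((k.factorial : ℕ) : ZMod p) ≠ 0 := fun k hk h => by
    rw [ZMod.natCast_eq_zero_iff, hp.out.dvd_factorial] at h
    omega
  have hsmall : ∀ k ∈ (Finset.range p).erase 0, k ≠ e → MemLocalIdeal M (f k) := by
    intro k hk hne'
    rw [Finset.mem_erase, Finset.mem_range] at hk
    rcases lt_or_gt_of_ne hne' with hlt | hgt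
    · have h := hak k (Nat.pos_of_ne_zero hk.1) hlt.le
      rw [if_neg hne', Nat.cast_mul, mul_eq_zero, or_iff_right (hpfac k hlt.le),
        ZMod.natCast_eq_zero_iff] at h
      obtain ⟨b, hb⟩ := h
      have hfk : f k = π ^ (p - 1 - e) * (up * (b : ℂ) * (-π) ^ k) := by
        simp only [hf, ha]
        rw [hb, Nat.cast_mul, hpπ, eq_comm, eq_div_iff (pow_ne_zero _ hπ0)]
        rw [show π ^ (p - 1) = π ^ (p - 1 - e) * π ^ e by rw [← pow_add]; congr 1; omega]
        ring
      rw [hfk]
      exact memLocalIdeal_mul_right (hπn _ (by omega)) (memLocalRing_mul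
        (memLocalRing_mul hupR (memLocalRing_natCast _)) (memLocalRing_pow (memLocalRing_neg hπR) _))
    · have hfk : f k = π ^ (k - e) * ((a k : ℂ) * (-1) ^ k) := by
        simp only [hf]
        rw [eq_comm, eq_div_iff (pow_ne_zero _ hπ0), neg_pow π k,
          show π ^ k = π ^ (k - e) * π ^ e by rw [← pow_add]; congr 1; omega]
        ring
      rw [hfk]
      exact memLocalIdeal_mul_right (hπn _ (by omega))
        (memLocalRing_mul (memLocalRing_natCast _) (memLocalRing_pow
          (memLocalRing_neg memLocalRing_one) _))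
  have hemem : e ∈ (Finset.range p).erase 0 := Finset.mem_erase.2 ⟨he.ne', Finset.mem_range.2
    (by omega)⟩
  have hfe : f e = (a e : ℂ) * (-1) ^ e := by
    simp only [hf]
    rw [neg_pow π e, ← mul_assoc, mul_div_cancel_right₀ _ (pow_ne_zero _ hπ0)]
  have hpae : ¬ p ∣ a e := by
    intro h
    have h' := hak e he le_rfl
    rw [if_pos rfl, Nat.cast_mul] at h'
    rw [show ((a e : ℕ) : ZMod p) = 0 from (ZMod.natCast_eq_zero_iff _ _).2 h, mul_zero, eq_comm,
      ZMod.natCast_eq_zero_iff] at h'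
    have := Nat.le_of_dvd he h'
    omega
  have hfeR : MemLocalRing M (f e) := by
    rw [hfe]
    exact memLocalRing_mul (memLocalRing_natCast _) (memLocalRing_pow
      (memLocalRing_neg memLocalRing_one) _)
  have hfeU : ¬ MemLocalIdeal M (f e) := by
    rw [hfe]
    intro h
    refine hpae ((memLocalIdeal_natCast_iff hM _).1 ?_)
    have h' := memLocalIdeal_mul_right h (memLocalRing_pow (memLocalRing_neg memLocalRing_one) e)
    rwa [mul_assoc, ← mul_pow, neg_one_mul, neg_neg, one_pow, mul_one] at h'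
  have huR : MemLocalRing M u := by
    rw [hu]
    refine memLocalRing_neg (memLocalRing_sum _ fun k hk => ?_)
    by_cases hke : k = e
    · exact hke ▸ hfeR
    · exact memLocalIdeal_mem_ring (hsmall k hk hke)
  have huU : ¬ MemLocalIdeal M u := by
    intro h
    apply hfeU
    have hrest : MemLocalIdeal M (∑ k ∈ ((Finset.range p).erase 0).erase e, f k) :=
      memLocalIdeal_sum _ fun k hk =>
        hsmall k (Finset.mem_of_mem_erase hk) (Finset.mem_erase.1 hk).1
    have hh := memLocalIdeal_sub (memLocalIdeal_neg h) hrest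
    rwa [hu, neg_neg, ← Finset.add_sum_erase _ _ hemem, add_sub_cancel_right] at hh
  -- conclusion
  intro hcontra
  rw [hdec] at hcontra
  have hu0 := ne_zero_of_not_memLocalIdeal huU
  have h5 : MemLocalRing M ((π ^ e) ^ 2 / π ^ (p - 1)) := by
    have := memLocalRing_mul hcontra
      (memLocalRing_mul hupR (memLocalRing_pow (memLocalRing_inv huR huU) 2))
    convert this using 1
    rw [hpπ]
    field_simp
  apply not_memLocalIdeal_one (M := M)
  have h6 := memLocalIdeal_mul_left h5 (hπn (p - 1 - 2 * e) (by omega))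
  rwa [← pow_mul, div_mul_eq_mul_div, ← pow_add, show e * 2 + (p - 1 - 2 * e) = p - 1 by omega,
    div_self (pow_ne_zero _ hπ0)] at h6

end Cfsg.Agent.Lib.CyclicPieces
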